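import Groth.Agent.LeadVan.Vanishing

/-!
# Vanishing above the dimension of the support
-/

set_option autoImplicit false

universe u

open CategoryTheory Opposite TopologicalSpace

namespace Groth.Agent.LeadVan

variable {X : TopCat.{u}} [NoetherianSpace X]

/-- A sheaf zero off a closed subset of dimension at most `d` has no cohomology above `d`. -/
theorem subsingleton_H_of_supported {Z : Set X} (hZ : IsClosed Z) (d : ℕ) (hd : topologicalKrullDim Z ≤ d)
    (F : CohTop.Ab X) (hF : ∀ U : Opens X, (∀ x ∈ U, x ∉ Z) → ∀ s : F.obj.obj (op U), s = 0)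
    (p : ℕ) (hp : d < p) : Subsingleton (CohTop.H F p) := by
  refine subsingleton_H_of_suppLT (d + 1) F (fun W hW U hWU s => ?_) p hp
  have hWZ : ¬ (W : Set X) ⊆ Z := fun hsub => by
    have hle : Order.height W ≤ (d : ℕ∞) := by
      refine Order.height_le fun l hl => ?_
      have hsubZ : ∀ i, (l i : Set X) ⊆ Z := fun i x hx => hsub (hl.le (l.monotone (Fin.le_last i) hx))
      let toZ : ∀ i, IrreducibleCloseds Z := fun i =>
        ⟨Subtype.val ⁻¹' (l i : Set X), ⟨by
          obtain ⟨x, hx⟩ := (l i).isIrreducible'.nonempty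
          exact ⟨⟨x, hsubZ i hx⟩, hx⟩, by
          rintro _ _ ⟨u, hu, rfl⟩ ⟨v, hv, rfl⟩ ⟨⟨x, hxZ⟩, hx, hxu⟩ ⟨⟨y, hyZ⟩, hy, hyv⟩
          obtain ⟨z, hz, hzu, hzv⟩ := (l i).isIrreducible'.2 u v hu hv ⟨x, hx, hxu⟩ ⟨y, hy, hyv⟩
          exact ⟨⟨z, hsubZ i hz⟩, hz, hzu, hzv⟩⟩, (l i).isClosed'.preimage continuous_subtype_val⟩
      have hmono : StrictMono toZ := fun i j hij => by
        have hlt := l.strictMono hij
        refine lt_of_le_of_ne (fun x hx => hlt.le hx) fun heq => hlt.ne (SetLike.coe_injective (Set.ext fun x => ?_))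
        exact ⟨fun h => hlt.le h, fun h => (Set.ext_iff.1 (congrArg (fun A : IrreducibleCloseds Z => (A : Set Z)) heq)
          ⟨x, hsubZ j h⟩).2 h⟩
      have h := (Order.LTSeries.length_le_krullDim (LTSeries.mk l.length toZ hmono)).trans hd
      exact WithBot.coe_le_coe.1 h
    exact absurd (hW.trans hle) (by exact_mod_cast Nat.not_succ_le_self d)
  let V : Opens X := U ⊓ ⟨Zᶜ, hZ.isOpen_compl⟩
  refine ⟨V, inf_le_left, ?_, hF V (fun x hx => hx.2) _⟩
  obtain ⟨x, hxW, hxZ⟩ := Set.not_subset.1 hWZ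
  exact hWU.inf (show Meets W ⟨Zᶜ, hZ.isOpen_compl⟩ from ⟨x, hxW, hxZ⟩)

end Groth.Agent.LeadVan
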