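import Groth.Agent.LeadVan.Skyscraper
import Groth.Agent.H10Coh.PushEdge

/-!
# Grothendieck vanishing
-/

set_option autoImplicit false
set_option linter.style.haveILetI false
set_option linter.unusedSectionVars false

universe u

open CategoryTheory CategoryTheory.Limits Opposite TopologicalSpace Abelian

namespace Groth.Agent.LeadVan

attribute [local instance 10000] H10Coh.hasSheafifyAb H10Coh.hasWeakSheafifyAb H10Coh.hasExtAb H10Coh.enoughInjAb

variable {X : TopCat.{u}}

theorem sections_injective {F G : CohTop.Ab X} (φ : F ⟶ G) [Mono φ] (U : Opens X) :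
    Function.Injective (φ.hom.app (op U)) := by
  intro a b hab
  apply (H10Coh.sect U F).symm.injective
  rw [← cancel_mono φ]
  apply (H10Coh.sect U G).injective
  rw [H10Coh.sect_comp, H10Coh.sect_comp, AddEquiv.apply_symm_apply, AddEquiv.apply_symm_apply, hab]

theorem exists_local_lift {F G : CohTop.Ab X} (φ : F ⟶ G) [Epi φ] (U : Opens X) (t : G.obj.obj (op U))
    {x : X} (hx : x ∈ U) : ∃ (V : Opens X) (hle : V ≤ U), x ∈ V ∧ ∃ s : F.obj.obj (op V),
      φ.hom.app (op V) s = res G hle t := by
  have := (TopCat.Sheaf.isLocallySurjective_iff_epi φ).mpr ‹Epi φ›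
  obtain ⟨V, hVU, ⟨s, hs⟩, hxV⟩ := (TopCat.Presheaf.isLocallySurjective_iff φ.hom).mp this U t x hx
  exact ⟨V, hVU, hxV, s, hs⟩

theorem res_app {F G : CohTop.Ab X} (φ : F ⟶ G) {U V : Opens X} (h : V ≤ U) (s : F.obj.obj (op U)) :
    φ.hom.app (op V) (res F h s) = res G h (φ.hom.app (op U) s) :=
  congr($(φ.hom.naturality (homOfLE h).op) s)

theorem subsingleton_X₂ {S : ShortComplex (CohTop.Ab X)} (hS : S.ShortExact) (n : ℕ)
    (h₁ : Subsingleton (CohTop.H S.X₁ n)) (h₃ : Subsingleton (CohTop.H S.X₃ n)) :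
    Subsingleton (CohTop.H S.X₂ n) := subsingleton_of_forall_eq 0 fun x => by
  obtain ⟨y, rfl⟩ := Ext.covariant_sequence_exact₂ _ hS x (h₃.elim _ _)
  rw [h₁.elim y 0, Ext.zero_comp]

theorem subsingleton_X₁ {S : ShortComplex (CohTop.Ab X)} (hS : S.ShortExact) (n : ℕ)
    (h₃ : Subsingleton (CohTop.H S.X₃ n)) (h₂ : Subsingleton (CohTop.H S.X₂ (n + 1))) :
    Subsingleton (CohTop.H S.X₁ (n + 1)) := subsingleton_of_forall_eq 0 fun x => by
  obtain ⟨y, rfl⟩ := Ext.covariant_sequence_exact₁ _ hS x (h₂.elim _ _) rfl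
  rw [h₃.elim y 0, Ext.zero_comp]

theorem SuppLT.isZero {F : CohTop.Ab X} (h : SuppLT 0 F) : IsZero F := by
  rw [IsZero.iff_id_eq_zero]
  ext U s
  refine TopCat.Sheaf.eq_of_locally_eq' F (fun V : {V : Opens X // ∃ hle : V ≤ U.unop, res F hle s = 0} => V.1)
    U.unop (fun V => homOfLE V.2.choose) (fun x hx => ?_) _ _ fun V => ?_
  · let W : IrreducibleCloseds X := ⟨closure {x}, isIrreducible_singleton.closure, isClosed_closure⟩
    obtain ⟨V, hle, ⟨y, hy, hyV⟩, h0⟩ := h W bot_le U.unop ⟨x, subset_closure rfl, hx⟩ s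
    obtain ⟨z, hzV, hz⟩ := mem_closure_iff.1 hy V V.isOpen hyV
    rw [Set.mem_singleton_iff] at hz
    exact Opens.mem_iSup.2 ⟨⟨V, hle, h0⟩, hz ▸ hzV⟩
  · exact (V.2.choose_spec.trans (map_zero _).symm)

variable [NoetherianSpace X]

theorem subsingleton_H_of_suppLT (k : ℕ) :
    ∀ (F : CohTop.Ab X), SuppLT k F → ∀ p, k ≤ p → Subsingleton (CohTop.H F p) := by
  classical
  induction k with
  | zero =>
    intro F hF p _
    exact subsingleton_of_forall_eq 0 fun x => by
      rw [← Ext.comp_mk₀_id x, (IsZero.iff_id_eq_zero F).1 hF.isZero, Ext.mk₀_zero, Ext.comp_zero]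
  | succ k ih =>
    intro F hF p hp
    let φ := toG F k hF
    let K := kernel φ
    let I := Abelian.coimage φ
    let m : I ⟶ Gsh F k := Abelian.factorThruCoimage φ
    let C := cokernel m
    have hS₁ : (ShortComplex.mk (kernel.ι φ) (Abelian.coimage.π φ) (cokernel.condition _)).ShortExact :=
      { exact := ShortComplex.exact_cokernel (kernel.ι φ) }
    have hS₂ : (ShortComplex.mk m (cokernel.π m) (cokernel.condition m)).ShortExact :=
      { exact := ShortComplex.exact_cokernel m }
    have hK : SuppLT k K := by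
      intro W hW U hU s
      obtain hlt | heq := hW.lt_or_eq
      · obtain ⟨V, hle, hV, h0⟩ := hF W (by
          rw [Nat.cast_add, Nat.cast_one]; exact (ENat.add_one_le_iff (ENat.natCast_ne_top k)).2 hlt) U hU
          ((kernel.ι φ).hom.app (op U) s)
        refine ⟨V, hle, hV, sections_injective (kernel.ι φ) V ?_⟩
        rw [res_app, h0, map_zero]
      · have hg : germ F W U ((kernel.ι φ).hom.app (op U) s) = 0 := by
          have h1 : φ.hom.app (op U) ((kernel.ι φ).hom.app (op U) s) = 0 :=
            congr($(congrArg (fun k : K ⟶ Gsh F k => k.hom.app (op U)) (kernel.condition φ)) s)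
          exact congrArg (fun g : famSub F k U => g.1 ⟨W, heq.symm⟩) h1
        obtain ⟨V, hle, hV, h0⟩ := exists_res_eq_zero F W hU _ hg
        refine ⟨V, hle, hV, sections_injective (kernel.ι φ) V ?_⟩
        rw [res_app, h0, map_zero]
    have hφm : Abelian.coimage.π φ ≫ m = φ := Abelian.coimage.fac φ
    have hC : SuppLT k C := by
      intro W hW U hU c
      obtain ⟨x, hxW, hxU⟩ := hU
      obtain ⟨V, hle, hxV, g, hg⟩ := exists_local_lift (cokernel.π m) U c hxU
      have hV : Meets W V := ⟨x, hxW, hxV⟩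
      -- avoid a finite family of closed subsets not containing `W`
      have avoid : ∀ (S : Set (Lev X k)), S.Finite → (∀ W' ∈ S, W'.1 ≠ W) → ∀ O : Opens X, Meets W O →
          ∃ O' : Opens X, O' ≤ O ∧ Meets W O' ∧ ∀ W' ∈ S, ¬ Meets W'.1 O' := by
        intro S hS hne O hO
        let T : Opens X := ⟨(⋃ W' ∈ S, ((W'.1 : IrreducibleCloseds X) : Set X))ᶜ,
          (hS.isClosed_biUnion fun W' _ => W'.1.isClosed').isOpen_compl⟩
        have hT : Meets W T := by
          by_contra hn
          have hsub : (W : Set X) ⊆ ⋃₀ ↑(hS.toFinset.image fun W' : Lev X k => (W'.1 : Set X)) := by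
            intro y hy
            by_contra hy'
            refine hn ⟨y, hy, fun h => hy' ?_⟩
            obtain ⟨W', hW', hyW'⟩ := Set.mem_iUnion₂.1 h
            exact ⟨_, Finset.mem_coe.2 (Finset.mem_image_of_mem _ (hS.mem_toFinset.2 hW')), hyW'⟩
          obtain ⟨Z, hZ, hWZ⟩ := isIrreducible_iff_sUnion_isClosed.1 W.isIrreducible' _ (fun z hz => by
            obtain ⟨W', -, rfl⟩ := Finset.mem_image.1 hz
            exact W'.1.isClosed') hsub
          obtain ⟨W', hW', rfl⟩ := Finset.mem_image.1 hZ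
          have hlt : W < W'.1 := lt_of_le_of_ne hWZ fun e => hne W' (hS.mem_toFinset.1 hW') e.symm
          have h1 : Order.height W < (k : ℕ∞) := lt_of_lt_of_le (Order.height_strictMono hlt
            (lt_of_le_of_lt ((Order.height_mono hlt.le).trans W'.2.le) (ENat.natCast_lt_top k))) W'.2.le
          exact absurd hW (not_le.2 h1)
        exact ⟨O ⊓ T, inf_le_left, hO.inf hT, fun W' hW' ⟨y, hy, hyO⟩ =>
          hyO.2 (Set.mem_biUnion hW' hy)⟩
      obtain hlt | heq := hW.lt_or_eq
      · obtain ⟨O, hO, hWO, hav⟩ := avoid {W' | g.1 W' ≠ 0} g.2.1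
          (fun W' _ e => absurd (W'.2.symm.trans (congrArg Order.height e)) hlt.ne) V hV
        have h0 : res (Gsh F k) hO g = 0 := Subtype.ext (funext fun W' => by
          show (cut F k V O g).1 W' = 0
          by_cases hm : Meets W'.1 O
          · rw [cut_pos F k _ hm]
            by_contra hne
            exact hav W' hne hm
          · exact cut_neg F k _ hm)
        refine ⟨O, hO.trans hle, hWO, ?_⟩
        rw [← res_res C hle hO, ← hg, ← res_app, h0, map_zero]
      · let W₀ : Lev X k := ⟨W, heq.symm⟩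
        obtain ⟨U₁, hU₁, s, hs⟩ := exists_germ F W (g.1 W₀)
        let V₁ := V ⊓ U₁
        have hV₁ : Meets W V₁ := hV.inf hU₁
        let s₁ := res F (inf_le_right : V₁ ≤ U₁) s
        obtain ⟨O, hO, hWO, hav⟩ := avoid ({W' | g.1 W' ≠ 0 ∨ germ F W'.1 V₁ s₁ ≠ 0} \ {W₀})
          ((g.2.1.union (finite_germs F k hF V₁ s₁)).subset Set.sdiff_subset)
          (fun W' hW' e => hW'.2 (Subtype.ext e)) V₁ hV₁
        have hO' : O ≤ V := hO.trans inf_le_left
        have h0 : res (Gsh F k) hO' g = φ.hom.app (op O) (res F hO s₁) := Subtype.ext (funext fun W' => by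
          show (cut F k V O g).1 W' = germ F W'.1 O (res F hO s₁)
          by_cases hm : Meets W'.1 O
          · rw [cut_pos F k _ hm, germ_res F W'.1 hO hm]
            by_cases he : W' = W₀
            · subst he
              rw [← hs, germ_res F W (inf_le_right : V₁ ≤ U₁) hV₁]
            · by_contra hne
              refine hav W' ⟨?_, he⟩ hm
              by_contra hn
              simp only [Set.mem_setOf_eq, not_or, not_not] at hn
              exact hne (hn.1.trans hn.2.symm)
          · rw [cut_neg F k _ hm, germ, dif_neg hm]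
            rfl)
        refine ⟨O, hO'.trans hle, hWO, ?_⟩
        rw [← res_res C hle hO', ← hg, ← res_app, h0]
        have hz : φ ≫ cokernel.π m = 0 := by rw [← hφm, Category.assoc, cokernel.condition, comp_zero]
        exact congr($(congrArg (fun k : F ⟶ C => k.hom.app (op O)) hz) (res F hO s₁))
    obtain ⟨q, rfl⟩ : ∃ q, p = q + 1 := ⟨p - 1, by omega⟩
    have hG : Subsingleton (CohTop.H (Gsh F k) (q + 1)) := H10Coh.subsingleton_H_of_flasque (flasque_Gsh F k) q
    exact subsingleton_X₂ hS₁ (q + 1) (ih K hK (q + 1) (by omega))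
      (subsingleton_X₁ hS₂ q (ih C hC q (by omega)) hG)

/-- Cohomology vanishes above the dimension. -/
theorem subsingleton_H_of_dim_le (d : ℕ) (hd : topologicalKrullDim X ≤ d) (F : CohTop.Ab X) (p : ℕ) (hp : d < p) :
    Subsingleton (CohTop.H F p) :=
  subsingleton_H_of_suppLT (d + 1) F (fun W hW _ _ _ => absurd hW (not_le.2 (by
    have h := (Order.height_le_krullDim W).trans hd
    have h' : Order.height W ≤ (d : ℕ∞) := WithBot.coe_le_coe.1 h
    exact lt_of_le_of_lt h' (by exact_mod_cast Nat.lt_succ_self d)))) p hp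

end Groth.Agent.LeadVan
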