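import Groth.Agent.H10Coh.SheafH
import Mathlib.Topology.NoetherianSpace
import Mathlib.Topology.KrullDimension
import Mathlib.Topology.Sheaves.SheafCondition.UniqueGluing
import Mathlib.Algebra.Colimit.Module

/-!
# The flasque sheaf of germs along irreducible closed subsets of a given height

No points are used, so the space need not be sober.
-/

set_option autoImplicit false
set_option linter.style.haveILetI false
set_option linter.unusedSectionVars false

noncomputable section

universe u

open CategoryTheory CategoryTheory.Limits Opposite TopologicalSpace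

namespace Groth.Agent.LeadVan

variable {X : TopCat.{u}}

/-- The irreducible closed subset meets the open. -/
def Meets (W : IrreducibleCloseds X) (U : Opens X) : Prop := ((W : Set X) ∩ (U : Set X)).Nonempty

theorem Meets.mono {W : IrreducibleCloseds X} {U V : Opens X} (h : Meets W V) (hle : V ≤ U) : Meets W U :=
  Set.Nonempty.mono (Set.inter_subset_inter_right (W : Set X) (SetLike.coe_subset_coe.2 hle)) h

theorem Meets.inf {W : IrreducibleCloseds X} {U V : Opens X} (hU : Meets W U) (hV : Meets W V) :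
    Meets W (U ⊓ V) :=
  W.isIrreducible'.2 U V U.isOpen V.isOpen hU hV

theorem meets_top (W : IrreducibleCloseds X) : Meets W ⊤ := by
  obtain ⟨x, hx⟩ := W.isIrreducible'.1
  exact ⟨x, hx, trivial⟩

/-- The opens meeting `W`, under reverse inclusion. -/
abbrev Nbhd (W : IrreducibleCloseds X) : Type u := {U : Opens X // Meets W U}ᵒᵈ

instance (W : IrreducibleCloseds X) : Nonempty (Nbhd W) := ⟨OrderDual.toDual ⟨⊤, meets_top W⟩⟩

instance (W : IrreducibleCloseds X) : IsDirectedOrder (Nbhd W) :=
  ⟨fun a b => ⟨OrderDual.toDual ⟨(OrderDual.ofDual a).1 ⊓ (OrderDual.ofDual b).1,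
      (OrderDual.ofDual a).2.inf (OrderDual.ofDual b).2⟩, (inf_le_left : _ ≤ (OrderDual.ofDual a).1),
      (inf_le_right : _ ≤ (OrderDual.ofDual b).1)⟩⟩

variable (F : CohTop.Ab X) (W : IrreducibleCloseds X)

/-- Restriction. -/
abbrev res {U V : Opens X} (h : V ≤ U) : F.obj.obj (op U) →+ F.obj.obj (op V) :=
  (F.obj.map (homOfLE h).op).hom

theorem res_res {U V O : Opens X} (h : V ≤ U) (h' : O ≤ V) (s : F.obj.obj (op U)) :
    res F h' (res F h s) = res F (h'.trans h) s :=
  (congr($(F.obj.map_comp (homOfLE h).op (homOfLE h').op) s)).symm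

theorem res_id {U : Opens X} (s : F.obj.obj (op U)) : res F (le_refl U) s = s :=
  congr($(F.obj.map_id (op U)) s)

/-- The groups of sections near `W`. -/
abbrev fam (a : Nbhd W) : Type u := F.obj.obj (op (OrderDual.ofDual a).1)

/-- The transition maps. -/
abbrev famMap (a b : Nbhd W) (h : a ≤ b) : fam F W a →+ fam F W b := res F h

instance : DirectedSystem (fam F W) fun a b h => famMap F W a b h where
  map_self _ x := res_id F x
  map_map _ _ _ h h' x := res_res F h h' x

open scoped Classical in
/-- Germs along `W`. -/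
abbrev Germ : Type u := AddCommGroup.DirectLimit (fam F W) (famMap F W)

open scoped Classical in
/-- The germ along `W` of a section, zero if `W` misses the open. -/
def germ (U : Opens X) : F.obj.obj (op U) →+ Germ F W :=
  if h : Meets W U then AddCommGroup.DirectLimit.of (fam F W) (famMap F W) (OrderDual.toDual ⟨U, h⟩) else 0

theorem germ_res {U V : Opens X} (h : V ≤ U) (hV : Meets W V) (s : F.obj.obj (op U)) :
    germ F W V (res F h s) = germ F W U s := by
  classical
  rw [germ, germ, dif_pos hV, dif_pos (hV.mono h)]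
  exact AddCommGroup.DirectLimit.of_f (f := famMap F W) (i := OrderDual.toDual ⟨U, hV.mono h⟩)
    (j := OrderDual.toDual ⟨V, hV⟩) h s

theorem exists_germ (g : Germ F W) : ∃ (U : Opens X) (_ : Meets W U) (s : F.obj.obj (op U)), germ F W U s = g := by
  classical
  induction g using AddCommGroup.DirectLimit.induction_on with
  | ih i x =>
    refine ⟨(OrderDual.ofDual i).1, (OrderDual.ofDual i).2, x, ?_⟩
    rw [germ, dif_pos (OrderDual.ofDual i).2]
    rfl

theorem exists_res_eq_zero {U : Opens X} (hU : Meets W U) (s : F.obj.obj (op U)) (h : germ F W U s = 0) :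
    ∃ (V : Opens X) (hle : V ≤ U), Meets W V ∧ res F hle s = 0 := by
  classical
  rw [germ, dif_pos hU] at h
  obtain ⟨j, hij, hj⟩ := AddCommGroup.DirectLimit.of.zero_exact (G := fam F W) (f := famMap F W) (OrderDual.toDual ⟨U, hU⟩ : Nbhd W) s h
  exact ⟨(OrderDual.ofDual j).1, hij, (OrderDual.ofDual j).2, hj⟩

variable (k : ℕ)

/-- The irreducible closed subsets of height `k`. -/
abbrev Lev (X : TopCat.{u}) (k : ℕ) : Type u := {W : IrreducibleCloseds X // Order.height W = k}

/-- Finitely supported families of germs at the members meeting `U`. -/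
def famSub (U : Opens X) : AddSubgroup (∀ W : Lev X k, Germ F W.1) where
  carrier := {g | {W | g W ≠ 0}.Finite ∧ ∀ W : Lev X k, ¬ Meets W.1 U → g W = 0}
  zero_mem' := ⟨by simp, fun _ _ => rfl⟩
  add_mem' {a b} ha hb := ⟨(ha.1.union hb.1).subset fun W hW => by
      by_contra hn
      simp only [Set.mem_union, Set.mem_setOf_eq, not_or, not_not] at hn
      exact hW (by show a W + b W = 0; rw [hn.1, hn.2, add_zero]),
    fun W hW => by show a W + b W = 0; rw [ha.2 W hW, hb.2 W hW, add_zero]⟩
  neg_mem' {a} ha := ⟨ha.1.subset fun W hW h0 => hW (by show -a W = 0; rw [h0, neg_zero]),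
    fun W hW => by show -a W = 0; rw [ha.2 W hW, neg_zero]⟩

open scoped Classical in
/-- Cutting down to the members meeting a smaller open. -/
def cut (U V : Opens X) : famSub F k U →+ famSub F k V where
  toFun g := ⟨fun W => if Meets W.1 V then g.1 W else 0,
    g.2.1.subset fun W hW h0 => hW (by simp [h0]), fun W hW => if_neg hW⟩
  map_zero' := Subtype.ext (funext fun W => by simp)
  map_add' a b := Subtype.ext (funext fun W => by
    show (if Meets W.1 V then a.1 W + b.1 W else 0) =
      (if Meets W.1 V then a.1 W else 0) + (if Meets W.1 V then b.1 W else 0)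
    split_ifs <;> simp)

theorem cut_pos {U V : Opens X} (g : famSub F k U) {W : Lev X k} (h : Meets W.1 V) :
    (cut F k U V g).1 W = g.1 W := by
  classical
  exact if_pos h

theorem cut_neg {U V : Opens X} (g : famSub F k U) {W : Lev X k} (h : ¬ Meets W.1 V) :
    (cut F k U V g).1 W = 0 := by
  classical
  exact if_neg h

/-- The presheaf of families of germs. -/
def Gpre : TopCat.Presheaf AddCommGrpCat.{u} X where
  obj U := AddCommGrpCat.of (famSub F k U.unop)
  map {U V} _ := AddCommGrpCat.ofHom (cut F k U.unop V.unop)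
  map_id U := AddCommGrpCat.hom_ext (AddMonoidHom.ext fun g => Subtype.ext (funext fun W => by
    by_cases h : Meets W.1 U.unop
    · exact cut_pos F k g h
    · exact (cut_neg F k g h).trans (g.2.2 W h).symm))
  map_comp {U V O} f f' := AddCommGrpCat.hom_ext (AddMonoidHom.ext fun g => Subtype.ext (funext fun W => by
    show (cut F k U.unop O.unop g).1 W = (cut F k V.unop O.unop (cut F k U.unop V.unop g)).1 W
    by_cases h : Meets W.1 O.unop
    · rw [cut_pos F k g h, cut_pos F k _ h, cut_pos F k g (h.mono (leOfHom f'.unop))]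
    · rw [cut_neg F k g h, cut_neg F k _ h]))

variable [NoetherianSpace X]

theorem Gpre_isSheaf : TopCat.Presheaf.IsSheaf (Gpre F k) := by
  classical
  rw [TopCat.Presheaf.isSheaf_iff_isSheafUniqueGluing]
  intro ι U sf hcpt
  have hind : ∀ (W : Lev X k) (i j : ι), Meets W.1 (U i) → Meets W.1 (U j) → (sf i).1 W = (sf j).1 W := by
    intro W i j hi hj
    have h := congrArg (fun g : famSub F k (U i ⊓ U j) => g.1 W) (hcpt i j)
    have hij := hi.inf hj
    exact ((cut_pos F k (sf i) hij).symm.trans h).trans (cut_pos F k (sf j) hij)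
  let g : ∀ W : Lev X k, Germ F W.1 := fun W =>
    if h : ∃ i, Meets W.1 (U i) then (sf h.choose).1 W else 0
  have hg : ∀ (W : Lev X k) (i : ι), Meets W.1 (U i) → g W = (sf i).1 W := by
    intro W i hi
    have h : ∃ i, Meets W.1 (U i) := ⟨i, hi⟩
    exact (dif_pos h).trans (hind W _ i h.choose_spec hi)
  obtain ⟨t, ht⟩ := (NoetherianSpace.isCompact ((iSup U : Opens X) : Set X)).elim_finite_subcover
    (fun i => (U i : Set X)) (fun i => (U i).isOpen) (fun x hx => by simpa using hx)
  have hmeets : ∀ W : Lev X k, Meets W.1 (iSup U) → ∃ i ∈ t, Meets W.1 (U i) := by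
    rintro W ⟨x, hxW, hxU⟩
    obtain ⟨i, hi, hxi⟩ := Set.mem_iUnion₂.1 (ht hxU)
    exact ⟨i, hi, x, hxW, hxi⟩
  have hgm : g ∈ famSub F k (iSup U) := by
    refine ⟨(t.finite_toSet.biUnion fun i _ => (sf i).2.1).subset fun W hW => ?_, fun W hW => ?_⟩
    · have h : ∃ i, Meets W.1 (U i) := by
        by_contra hn
        exact hW (dif_neg hn)
      obtain ⟨i, hit, hi⟩ := hmeets W (h.choose_spec.mono (le_iSup U _))
      exact Set.mem_biUnion hit (show (sf i).1 W ≠ 0 from hg W i hi ▸ hW)
    · exact dif_neg fun ⟨i, hi⟩ => hW (hi.mono (le_iSup U i))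
  refine ⟨⟨g, hgm⟩, fun i => Subtype.ext (funext fun W => ?_), fun s hs => Subtype.ext (funext fun W => ?_)⟩
  · show (cut F k (iSup U) (U i) ⟨g, hgm⟩).1 W = (sf i).1 W
    by_cases h : Meets W.1 (U i)
    · rw [cut_pos F k _ h]
      exact hg W i h
    · rw [cut_neg F k _ h, (sf i).2.2 W h]
  · by_cases h : Meets W.1 (iSup U)
    · obtain ⟨i, -, hi⟩ := hmeets W h
      have := congrArg (fun a : famSub F k (U i) => a.1 W) (hs i)
      exact ((cut_pos F k s hi).symm.trans this).trans (hg W i hi).symm
    · exact (s.2.2 W h).trans (hgm.2 W h).symm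

/-- The sheaf of families of germs. -/
def Gsh : CohTop.Ab X := ⟨Gpre F k, Gpre_isSheaf F k⟩

theorem flasque_Gsh : H10Coh.Flasque (Gsh F k) := by
  intro U V hle g
  refine ⟨⟨g.1, g.2.1, fun W hW => g.2.2 W fun h => hW (h.mono hle)⟩, Subtype.ext (funext fun W => ?_)⟩
  show (cut F k U V _).1 W = g.1 W
  by_cases h : Meets W.1 V
  · rw [cut_pos F k _ h]
  · rw [cut_neg F k _ h, g.2.2 W h]

/-- Sections vanish along the irreducible closed subsets of height at least `k`. -/
def SuppLT (k : ℕ) (F : CohTop.Ab X) : Prop :=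
  ∀ W : IrreducibleCloseds X, (k : ℕ∞) ≤ Order.height W → ∀ U : Opens X, Meets W U →
    ∀ s : F.obj.obj (op U), ∃ (V : Opens X) (hle : V ≤ U), Meets W V ∧ res F hle s = 0

theorem germ_eq_zero {U V : Opens X} (hle : V ≤ U) (hV : Meets W V) (s : F.obj.obj (op U))
    (h : res F hle s = 0) : germ F W U s = 0 := by
  rw [← germ_res F W hle hV s, h, map_zero]

theorem finite_germs (hF : SuppLT (k + 1) F) (U : Opens X) (s : F.obj.obj (op U)) :
    {W : Lev X k | germ F W.1 U s ≠ 0}.Finite := by
  classical
  let Ω : Set X := {x | ∃ (V : Opens X) (hle : V ≤ U), x ∈ V ∧ res F hle s = 0}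
  obtain ⟨S, hSf, hSc, hSi, hSU⟩ :=
    NoetherianSpace.exists_finite_set_isClosed_irreducible (isClosed_closure (s := (U : Set X) \ Ω))
  refine ((hSf.preimage (f := fun W : Lev X k => (W.1 : Set X))
    (fun a _ b _ h => Subtype.ext (SetLike.coe_injective h))).subset fun W hW => ?_)
  have hm : Meets W.1 U := by
    by_contra hn
    exact hW (by rw [germ, dif_neg hn]; rfl)
  have hsub : (W.1 : Set X) ∩ U ⊆ (U : Set X) \ Ω := by
    rintro x ⟨hxW, hxU⟩
    exact ⟨hxU, fun ⟨V, hle, hxV, h0⟩ => hW (germ_eq_zero F W.1 hle ⟨x, hxW, hxV⟩ s h0)⟩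
  have hWc : (W.1 : Set X) ⊆ closure ((U : Set X) \ Ω) := by
    refine (subset_closure_inter_of_isPreirreducible_of_isOpen W.1.isIrreducible'.2 U.isOpen hm).trans
      (closure_mono hsub)
  lift S to Finset (Set X) using hSf
  obtain ⟨C, hCS, hWC⟩ := isIrreducible_iff_sUnion_isClosed.1 W.1.isIrreducible' S hSc (hWc.trans hSU.le)
  let C' : IrreducibleCloseds X := ⟨C, hSi C hCS, hSc C hCS⟩
  have hC : ¬ ((k + 1 : ℕ) : ℕ∞) ≤ Order.height C' := by
    intro hC
    obtain ⟨V, hle, ⟨x, hxC, hxV⟩, h0⟩ := hF C' hC U ⟨hm.some, hWC hm.some_mem.1, hm.some_mem.2⟩ s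
    have hx : x ∈ closure ((U : Set X) \ Ω) := hSU ▸ Set.mem_sUnion_of_mem hxC hCS
    obtain ⟨y, hyV, hy⟩ := mem_closure_iff.1 hx V V.isOpen hxV
    exact hy.2 ⟨V, hle, hyV, h0⟩
  have hle : Order.height C' ≤ (k : ℕ∞) := by
    rw [not_le, Nat.cast_add, Nat.cast_one, ENat.lt_add_one_iff (ENat.coe_ne_top k)] at hC
    exact hC
  have heq : W.1 = C' := by
    by_contra hne
    have hlt : W.1 < C' := lt_of_le_of_ne hWC hne
    have := Order.height_strictMono hlt (lt_of_le_of_lt (Order.height_mono hlt.le) (lt_of_le_of_lt hle (ENat.coe_lt_top k)))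
    rw [W.2] at this
    exact absurd hle (not_le.2 this)
  show (W.1 : Set X) ∈ (S : Set (Set X))
  rw [heq]
  exact hCS

open scoped Classical in
/-- Taking germs. -/
def toG (hF : SuppLT (k + 1) F) : F ⟶ Gsh F k :=
  ⟨{ app := fun U => AddCommGrpCat.ofHom
      { toFun := fun s => ⟨fun W => germ F W.1 U.unop s, finite_germs F k hF U.unop s, fun W hW => by
          show germ F W.1 U.unop s = 0
          rw [germ, dif_neg hW]; rfl⟩
        map_zero' := Subtype.ext (funext fun W => map_zero _)
        map_add' := fun a b => Subtype.ext (funext fun W => map_add _ a b) }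
     naturality := fun U V f => AddCommGrpCat.hom_ext (AddMonoidHom.ext fun s => Subtype.ext (funext fun W => by
      show germ F W.1 V.unop (F.obj.map f s) = (cut F k U.unop V.unop ⟨fun W => germ F W.1 U.unop s, _⟩).1 W
      by_cases h : Meets W.1 V.unop
      · rw [cut_pos F k _ h]
        exact germ_res F W.1 (leOfHom f.unop) h s
      · rw [cut_neg F k _ h, germ, dif_neg h]; rfl)) }⟩

theorem toG_apply (hF : SuppLT (k + 1) F) (U : Opens X) (s : F.obj.obj (op U)) (W : Lev X k) :
    ((toG F k hF).hom.app (op U) s).1 W = germ F W.1 U s := rfl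

end Groth.Agent.LeadVan
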